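import Groth.Agent.NeronSH.SH
import Groth.Agent.WeilExt.Dedekind
import Groth.Agent.NeronSH.Piece

/-!
Rational maps into group schemes with the extension property for strictly henselian test rings
are defined at codimension one points.
-/

set_option autoImplicit false
set_option backward.isDefEq.respectTransparency false
set_option backward.isDefEq.respectTransparency.types false
set_option linter.style.haveILetI false
set_option maxHeartbeats 1000000

universe u

open CategoryTheory CategoryTheory.Limits AlgebraicGeometry TopologicalSpace IsLocalRing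
open Groth.Agent.H23 Groth.Agent.H23.RatPoint

noncomputable section

namespace Groth.Agent.NeronSH

variable {R : Type u} [CommRing R] [IsDomain R] [IsDiscreteValuationRing R]

/-- The extension property for the test rings. -/
def TestProp (G : Over (Spec (CommRingCat.of R))) : Prop :=
  ∀ (R' : Type u) [CommRing R'] [IsDomain R'] [IsDiscreteValuationRing R'] [Algebra R R']
      [IsLocalHom (algebraMap R R')] [HenselianLocalRing R'] [IsSepClosed (IsLocalRing.ResidueField R')],
    (IsLocalRing.maximalIdeal R).map (algebraMap R R') = IsLocalRing.maximalIdeal R' →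
    Algebra.IsGeometricallyReduced (IsLocalRing.ResidueField R) (IsLocalRing.ResidueField R') →
    ∀ x : Spec (CommRingCat.of (FractionRing R')) ⟶ G.left,
      x ≫ G.hom = Spec.map (CommRingCat.ofHom ((algebraMap R' (FractionRing R')).comp (algebraMap R R'))) →
      ∃ y : Spec (CommRingCat.of R') ⟶ G.left, y ≫ G.hom = Spec.map (CommRingCat.ofHom (algebraMap R R')) ∧
        Spec.map (CommRingCat.ofHom (algebraMap R' (FractionRing R'))) ≫ y = x

theorem defAt_special {X G : Over (Spec (CommRingCat.of R))} [IsIntegral X.left] [Smooth X.hom] [IsSeparated G.hom]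
    (hG : TestProp G) (φ : gen X ⟶ G) (π : R) (hπ : Irreducible π) (y : X.left)
    (hy : Order.coheight y ≤ 1) (hys : X.hom y = IsLocalRing.closedPoint R)
    (hgπ : π ∉ (X.hom (genericPoint X.left) : PrimeSpectrum R).asIdeal) : DefAt φ y := by
  classical
  haveI : IsLocallyNoetherian X.left := LocallyOfFiniteType.isLocallyNoetherian X.hom
  let O := X.left.presheaf.stalk y
  haveI : IsRegularLocalRing O :=
    WeilExt.isRegularLocalRing_stalk (WeilExt.isRegularLocalRing_stalk_spec (R := R)) X.hom y
  haveI : IsDomain O := (S2821.result O).1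
  let ψ : CommRingCat.of R ⟶ O := Spec.preimage (X.left.fromSpecStalk y ≫ X.hom)
  have hψ : Spec.map ψ = X.left.fromSpecStalk y ≫ X.hom := Spec.map_preimage _
  let sp : O ⟶ X.left.functionField := X.left.presheaf.stalkSpecializes (genericPoint_specializes y)
  have hsp : Spec.map sp ≫ X.left.fromSpecStalk y = X.left.fromSpecStalk (genericPoint X.left) :=
    Scheme.SpecMap_stalkSpecializes_fromSpecStalk (genericPoint_specializes y)
  have hψπ : ψ.hom π ≠ 0 := by
    intro h0
    apply hgπ
    have e1 : (Spec.map sp ≫ Spec.map ψ) (IsLocalRing.closedPoint X.left.functionField) =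
        X.hom (genericPoint X.left) := by
      rw [hψ, ← Category.assoc, hsp, Scheme.Hom.comp_apply, Scheme.fromSpecStalk_closedPoint]
    rw [← e1]
    show π ∈ Ideal.comap ψ.hom (Ideal.comap sp.hom _)
    rw [Ideal.mem_comap, h0]
    exact Submodule.zero_mem _
  have hloc : IsLocalHom ψ.hom := by
    have e1 : (Spec.map ψ) (IsLocalRing.closedPoint O) = IsLocalRing.closedPoint R := by
      rw [hψ, Scheme.Hom.comp_apply, Scheme.fromSpecStalk_closedPoint, hys]
    exact (IsLocalRing.local_hom_TFAE ψ.hom).out 0 4 |>.2 (congrArg PrimeSpectrum.asIdeal e1)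
  letI : Algebra R O := ψ.hom.toAlgebra
  haveI : IsLocalHom (algebraMap R O) := hloc
  have hJ : (maximalIdeal R).map (algebraMap R O) ≠ ⊥ := fun h => hψπ (by
    have : ψ.hom π ∈ (maximalIdeal R).map (algebraMap R O) := Ideal.mem_map_of_mem _ hπ.not_isUnit
    rw [h, Ideal.mem_bot] at this
    exact this)
  haveI hdvr : IsDiscreteValuationRing O := by
    have hnf : ¬ IsField O := fun hf => hJ (by
      rw [eq_bot_iff]
      exact (Ideal.map_le_iff_le_comap.2 (fun r hr => map_nonunit (algebraMap R O) r hr) : (maximalIdeal R).map (algebraMap R O) ≤ maximalIdeal O).trans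
        (IsLocalRing.isField_iff_maximalIdeal_eq.1 hf).le)
    refine ((IsDiscreteValuationRing.TFAE O hnf).out 0 4).2 (isPrincipal_maximalIdeal O ?_)
    rw [ringKrullDim_stalk_eq_coheight]
    exact WithBot.coe_le_coe.2 hy
  -- an affine neighbourhood
  obtain ⟨W, hW, hyW, -⟩ := exists_isAffineOpen_mem_and_subset (x := y) (U := ⊤) trivial
  let ψA : CommRingCat.of R ⟶ Γ(X.left, W) := Spec.preimage (hW.fromSpec ≫ X.hom)
  have hψA : Spec.map ψA = hW.fromSpec ≫ X.hom := Spec.map_preimage _
  letI : Algebra R Γ(X.left, W) := ψA.hom.toAlgebra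
  haveI : Algebra.Smooth R Γ(X.left, W) := by
    have : Smooth (Spec.map ψA) := by rw [hψA]; infer_instance
    exact (HasRingHomProperty.Spec_iff (P := @Smooth)).1 this
  letI := TopCat.Presheaf.algebra_section_stalk X.left.presheaf (⟨y, hyW⟩ : W)
  haveI := hW.isLocalization_stalk ⟨y, hyW⟩
  haveI : IsScalarTower R Γ(X.left, W) O := by
    have e : ψ = ψA ≫ X.left.presheaf.germ W y hyW := Spec.map_injective (by
      rw [Spec.map_comp, hψ, hψA, ← hW.fromSpecStalk_eq_fromSpecStalk hyW]
      exact Category.assoc _ _ _)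
    exact IsScalarTower.of_algebraMap_eq fun r => congrArg (fun q => q.hom r) e
  obtain ⟨hmap, hgr⟩ := unramified_of_smooth R Γ(X.left, W) O (hW.primeIdealOf ⟨y, hyW⟩).asIdeal.primeCompl hJ
  haveI := hgr
  obtain ⟨R', _, _, _, _, _, _, _, _, _, hsep, hmap', hgr', hinj⟩ := exists_testRing R O hmap
  haveI := hsep
  let K' := FractionRing R'
  letI : Algebra O X.left.functionField := sp.hom.toAlgebra
  haveI : IsFractionRing O X.left.functionField :=
    inferInstanceAs (IsFractionRing (X.left.presheaf.stalk y) X.left.functionField)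
  let θ₀ : O →+* K' := (algebraMap R' K').comp (algebraMap O R')
  have hθ₀ : Function.Injective θ₀ := (IsFractionRing.injective R' K').comp hinj
  have hun : ∀ s : nonZeroDivisors O, IsUnit (θ₀ s) := fun s =>
    Ne.isUnit ((map_ne_zero_iff θ₀ hθ₀).2 (nonZeroDivisors.coe_ne_zero s))
  let θ : X.left.functionField ⟶ CommRingCat.of K' :=
    CommRingCat.ofHom (IsLocalization.lift (M := nonZeroDivisors O) (S := X.left.functionField) hun)
  have hθ : ∀ o : O, θ.hom (sp.hom o) = algebraMap R' K' (algebraMap O R' o) := fun o =>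
    IsLocalization.lift_eq hun o
  let ψR : CommRingCat.of R ⟶ CommRingCat.of R' := CommRingCat.ofHom (algebraMap R R')
  let αR : CommRingCat.of R' ⟶ CommRingCat.of K' := CommRingCat.ofHom (algebraMap R' K')
  let αO : O ⟶ CommRingCat.of R' := CommRingCat.ofHom (algebraMap O R')
  have hψR : ψ ≫ αO = ψR := by
    ext r
    exact (IsScalarTower.algebraMap_apply R O R' r).symm
  have hθ' : sp ≫ θ = αO ≫ αR := by ext o; exact hθ o
  have hφ : φ.left ≫ G.hom = X.left.fromSpecStalk (genericPoint X.left) ≫ X.hom := Over.w φ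
  obtain ⟨τ, hτ, hτx⟩ := hG R' hmap' hgr' (Spec.map θ ≫ φ.left) (by
    rw [Category.assoc, hφ, ← hsp, Category.assoc, ← hψ, ← Spec.map_comp, ← Spec.map_comp]
    show Spec.map ((ψ ≫ sp) ≫ θ) = Spec.map (ψR ≫ αR)
    rw [Category.assoc, hθ', ← Category.assoc, hψR])
  obtain ⟨Ni, hNi, hτi, -⟩ := exists_isAffineOpen_mem_and_subset (x := τ (closedPoint R')) (U := ⊤) trivial
  have hrτ : Set.range τ ⊆ Set.range hNi.fromSpec := by
    rw [hNi.range_fromSpec]
    exact range_subset_of_closedPoint τ _ Ni.2 hτi
  have hrφ : Set.range φ.left ⊆ Set.range hNi.fromSpec := by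
    rintro _ ⟨z, rfl⟩
    have hz : z = (Spec.map θ) (closedPoint K') :=
      Subsingleton.elim (α := PrimeSpectrum X.left.functionField) _ _
    rw [hz]
    show (Spec.map θ ≫ φ.left) (closedPoint K') ∈ Set.range hNi.fromSpec
    rw [← hτx, Scheme.Hom.comp_apply]
    exact hrτ ⟨_, rfl⟩
  let β : Γ(G.left, Ni) ⟶ X.left.functionField := Spec.preimage (IsOpenImmersion.lift hNi.fromSpec φ.left hrφ)
  let ρ : Γ(G.left, Ni) ⟶ CommRingCat.of R' := Spec.preimage (IsOpenImmersion.lift hNi.fromSpec τ hrτ)
  have hβ : Spec.map β ≫ hNi.fromSpec = φ.left := by rw [Spec.map_preimage]; exact IsOpenImmersion.lift_fac _ _ _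
  have hρ : Spec.map ρ ≫ hNi.fromSpec = τ := by rw [Spec.map_preimage]; exact IsOpenImmersion.lift_fac _ _ _
  have hβρ : β ≫ θ = ρ ≫ αR := Spec.map_injective (by
    rw [← cancel_mono hNi.fromSpec, Spec.map_comp, Spec.map_comp, Category.assoc, Category.assoc, hβ, hρ]
    exact hτx.symm)
  have key : ∀ b, β.hom b ∈ Set.range sp.hom := fun b =>
    mem_range_of_dominates O R' (algebraMap O R') X.left.functionField K' θ.hom hθ (β.hom b) (ρ.hom b)
      (congrArg (fun q => q.hom b) hβρ)
  have hspinj : Function.Injective sp.hom := IsFractionRing.injective O X.left.functionField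
  let eA : O ≃+* sp.hom.range :=
    RingEquiv.ofBijective sp.hom.rangeRestrict
      ⟨fun a b h => hspinj (congrArg Subtype.val h), sp.hom.rangeRestrict_surjective⟩
  let β' : Γ(G.left, Ni) ⟶ O :=
    CommRingCat.ofHom (eA.symm.toRingHom.comp (β.hom.codRestrict sp.hom.range fun b => key b))
  have hβ' : β' ≫ sp = β := by
    ext b
    show sp.hom (eA.symm ⟨β.hom b, key b⟩) = β.hom b
    exact congrArg Subtype.val (eA.apply_symm_apply ⟨β.hom b, key b⟩)
  let χ : Spec O ⟶ G.left := Spec.map β' ≫ hNi.fromSpec
  have hχ : Spec.map sp ≫ χ = φ.left := by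
    rw [← Category.assoc, ← Spec.map_comp, hβ', hβ]
  have hw : χ ≫ G.hom = X.left.fromSpecStalk y ≫ X.hom := by
    rw [← hψ, ← Spec.map_preimage (χ ≫ G.hom)]
    congr 1
    have h1 : Spec.map (Spec.preimage (χ ≫ G.hom) ≫ sp) = Spec.map (ψ ≫ sp) := by
      rw [Spec.map_comp, Spec.map_comp, Spec.map_preimage, hψ, reassoc_of% hχ, hφ, ← Category.assoc, hsp]
    ext r
    exact hspinj (congrArg (fun q => q.hom r) (Spec.map_injective h1))
  exact ⟨Over.homMk χ hw, Over.OverMorphism.ext hχ⟩

end Groth.Agent.NeronSH
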