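import Groth.Agent.FlatMisc.SpreadSmooth
import Groth.Agent.GeomRedPts.Basic
import Groth.Agent.EGA41Lib.FieldFS
import Groth.Agent.S0537
import Groth.Agent.S0506
import Groth.Agent.S0538
import Groth.Agent.S9262
import Groth.Prelude.Def_Hensel

/-!
Strict henselisations of local rings at codimension one points of smooth schemes over a DVR.
-/

set_option autoImplicit false
set_option backward.isDefEq.respectTransparency false
set_option backward.isDefEq.respectTransparency.types false
set_option linter.style.haveILetI false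
set_option maxHeartbeats 1000000

universe u

open scoped TensorProduct
open IsLocalRing

noncomputable section

namespace Groth.Agent.NeronSH

/-- Ramification index one and separable residue extension at a prime divisor of the special fibre. -/
theorem unramified_of_smooth (R A O : Type u) [CommRing R] [IsLocalRing R]
    [CommRing A] [Algebra R A] [Algebra.Smooth R A] [CommRing O] [Algebra A O] [Algebra R O] [IsScalarTower R A O]
    (M : Submonoid A) [IsLocalization M O] [IsDomain O] [IsDiscreteValuationRing O] [IsLocalHom (algebraMap R O)]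
    (hJ : (maximalIdeal R).map (algebraMap R O) ≠ ⊥) :
    (maximalIdeal R).map (algebraMap R O) = maximalIdeal O ∧
      Algebra.IsGeometricallyReduced (ResidueField R) (ResidueField O) := by
  let k := ResidueField R
  haveI : Algebra.IsGeometricallyReduced k (k ⊗[R] A) := FlatMisc.SpreadRed.smooth_isGeometricallyReduced k (k ⊗[R] A)
  let φ : k ⊗[R] A →ₐ[k] k ⊗[R] O := Algebra.TensorProduct.map (AlgHom.id k k) (IsScalarTower.toAlgHom R A O)
  letI : Algebra (k ⊗[R] A) (k ⊗[R] O) := φ.toRingHom.toAlgebra
  haveI : IsScalarTower k (k ⊗[R] A) (k ⊗[R] O) := IsScalarTower.of_algebraMap_eq fun x => (φ.commutes x).symm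
  haveI := IsLocalization.tensorProduct_tensorProduct_right R k M O (by
    ext x
    show φ (1 ⊗ₜ x) = _
    simp [φ])
  haveI hgr : Algebra.IsGeometricallyReduced k (k ⊗[R] O) :=
    GeomRedPts.gr_localization (M.map (Algebra.TensorProduct.includeRight (R := R) (A := k))) (k ⊗[R] O)
  haveI : IsReduced (k ⊗[R] O) := Algebra.isReduced_of_isGeometricallyReduced (k := k)
  let J := (maximalIdeal R).map (algebraMap R O)
  let E : (O ⧸ J) ≃ₐ[R ⧸ maximalIdeal R] (R ⧸ maximalIdeal R) ⊗[R] O :=
    Algebra.TensorProduct.quotIdealMapEquivQuotTensor O (maximalIdeal R)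
  haveI : IsReduced ((R ⧸ maximalIdeal R) ⊗[R] O) := ‹IsReduced (k ⊗[R] O)›
  haveI : IsReduced (O ⧸ J) := isReduced_of_injective E.toRingEquiv.toRingHom E.toRingEquiv.injective
  have hle : J ≤ maximalIdeal O := Ideal.map_le_iff_le_comap.2 fun r hr => map_nonunit (algebraMap R O) r hr
  have heq : J = maximalIdeal O := by
    refine le_antisymm hle fun x hx => ?_
    obtain ⟨ϖ, hϖ⟩ := IsDiscreteValuationRing.exists_irreducible O
    by_cases h0 : J = ⊥
    · exact absurd h0 hJ
    obtain ⟨n, hn⟩ := IsDiscreteValuationRing.ideal_eq_span_pow_irreducible h0 hϖ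
    have hn0 : n ≠ 0 := fun h => (maximalIdeal.isMaximal O).ne_top (top_le_iff.1 (by
      rw [← Ideal.span_singleton_one, ← pow_zero ϖ, ← h, ← hn]; exact hle))
    have hred : ϖ ∈ J := by
      rw [← Ideal.Quotient.eq_zero_iff_mem]
      refine IsNilpotent.eq_zero ⟨n, ?_⟩
      rw [← map_pow, Ideal.Quotient.eq_zero_iff_mem, hn]
      exact Ideal.mem_span_singleton_self _
    rw [hϖ.maximalIdeal_eq] at hx
    obtain ⟨c, rfl⟩ := Ideal.mem_span_singleton.1 hx
    exact Ideal.mul_mem_right _ _ hred
  refine ⟨heq, ?_⟩
  let q : (O ⧸ J) ≃+* ResidueField O := Ideal.quotEquivOfEq heq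
  let f : ResidueField O →+* (R ⧸ maximalIdeal R) ⊗[R] O := E.toRingEquiv.toRingHom.comp q.symm.toRingHom
  have hf : Function.Injective f := E.toRingEquiv.injective.comp q.symm.injective
  refine Algebra.IsGeometricallyReduced.of_injective (B := k ⊗[R] O)
    { toRingHom := f
      commutes' := fun x => ?_ } hf
  obtain ⟨r, rfl⟩ := residue_surjective x
  show E (q.symm (residue O (algebraMap R O r))) = (residue R r) ⊗ₜ[R] (1 : O)
  rw [show q.symm (residue O (algebraMap R O r)) = Ideal.Quotient.mk J (algebraMap R O r) from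
    q.symm_apply_eq.2 rfl]
  rw [show E (Ideal.Quotient.mk J (algebraMap R O r)) = 1 ⊗ₜ[R] algebraMap R O r from rfl]
  show (1 : R ⧸ maximalIdeal R) ⊗ₜ[R] algebraMap R O r = (Ideal.Quotient.mk (maximalIdeal R) r) ⊗ₜ[R] (1 : O)
  rw [Algebra.algebraMap_eq_smul_one, TensorProduct.tmul_smul, TensorProduct.smul_tmul', Algebra.smul_def, _root_.mul_one]
  rfl

/-- The strict henselisation of such a local ring. -/
theorem exists_testRing (R O : Type u) [CommRing R] [IsLocalRing R] [CommRing O] [IsDomain O]
    [IsDiscreteValuationRing O] [Algebra R O] [IsLocalHom (algebraMap R O)]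
    (hmap : (maximalIdeal R).map (algebraMap R O) = maximalIdeal O)
    [Algebra.IsGeometricallyReduced (ResidueField R) (ResidueField O)] :
    ∃ (R' : Type u) (_ : CommRing R') (_ : IsDomain R') (_ : IsDiscreteValuationRing R') (_ : Algebra O R')
      (_ : Algebra R R') (_ : IsScalarTower R O R') (_ : IsLocalHom (algebraMap O R'))
      (_ : IsLocalHom (algebraMap R R')) (_ : HenselianLocalRing R'),
      IsSepClosed (ResidueField R') ∧ (maximalIdeal R).map (algebraMap R R') = maximalIdeal R' ∧
      Algebra.IsGeometricallyReduced (ResidueField R) (ResidueField R') ∧ Function.Injective (algebraMap O R') := by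
  obtain ⟨S, _, _, _, _, hS⟩ := S0537.result O
  obtain ⟨H, _, _, _, _, hH⟩ := S0506.result O
  haveI := hS
  obtain ⟨hdom, hdvr⟩ := ((S9262.result O H S).2).1 ⟨inferInstance, inferInstance⟩
  haveI := hdom
  letI : Algebra R S := ((algebraMap O S).comp (algebraMap R O)).toAlgebra
  haveI : IsScalarTower R O S := IsScalarTower.of_algebraMap_eq fun _ => rfl
  haveI : IsLocalHom (algebraMap R S) := RingHom.isLocalHom_comp (algebraMap O S) (algebraMap R O)
  haveI := hS.isSepClosure
  haveI : Algebra.IsSeparable (ResidueField O) (ResidueField S) := IsSepClosure.separable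
  haveI : IsScalarTower (ResidueField R) (ResidueField O) (ResidueField S) :=
    IsScalarTower.of_algebraMap_eq fun x => by obtain ⟨r, rfl⟩ := residue_surjective x; rfl
  haveI := EGA41Lib.FieldFS.formallySmooth_of_isGeometricallyReduced (ResidueField R) (ResidueField O)
  haveI : Algebra.FormallyEtale (ResidueField O) (ResidueField S) := Algebra.FormallyEtale.of_isSeparable _ _
  haveI : Algebra.FormallySmooth (ResidueField R) (ResidueField S) :=
    Algebra.FormallySmooth.comp (ResidueField R) (ResidueField O) (ResidueField S)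
  refine ⟨S, inferInstance, hdom, hdvr, inferInstance, inferInstance, inferInstance, inferInstance, inferInstance,
    hS.henselian, IsSepClosure.sep_closed (ResidueField O), ?_,
    EGA41Lib.FieldFS.isGeometricallyReduced_of_formallySmooth _ _, ?_⟩
  · show (maximalIdeal R).map ((algebraMap O S).comp (algebraMap R O)) = _
    rw [← Ideal.map_map, hmap]
    exact S0538.result O S
  · obtain ⟨ϖ, hϖ⟩ := IsDiscreteValuationRing.exists_irreducible O
    refine (injective_iff_map_eq_zero _).2 fun a ha => ?_
    by_contra hne
    obtain ⟨n, u, rfl⟩ := IsDiscreteValuationRing.eq_unit_mul_pow_irreducible hne hϖ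
    rw [map_mul, map_pow, (u.isUnit.map (algebraMap O S)).mul_right_eq_zero] at ha
    have h1 := S0538.result O S
    rw [hϖ.maximalIdeal_eq, Ideal.map_span, Set.image_singleton, pow_eq_zero_iff'.1 ha |>.1,
      Ideal.span_singleton_eq_bot.2 rfl] at h1
    exact IsDiscreteValuationRing.not_isField S (IsLocalRing.isField_iff_maximalIdeal_eq.2 h1.symm)

/-- Elements integral on a dominating local ring are integral. -/
theorem mem_range_of_dominates (O : Type u) [CommRing O] [IsDomain O] [IsDiscreteValuationRing O]
    (R' : Type u) [CommRing R'] [IsDomain R'] (f : O →+* R') [IsLocalHom f]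
    (F K' : Type u) [Field F] [Algebra O F] [IsFractionRing O F] [Field K'] [Algebra R' K'] [IsFractionRing R' K']
    (θ : F →+* K') (hθ : ∀ o, θ (algebraMap O F o) = algebraMap R' K' (f o))
    (z : F) (r : R') (hz : θ z = algebraMap R' K' r) : z ∈ Set.range (algebraMap O F) := by
  rcases ValuationRing.isInteger_or_isInteger O z with h | h
  · exact h
  obtain ⟨o, ho⟩ := h
  by_cases hz0 : z = 0
  · exact ⟨0, by rw [map_zero, hz0]⟩
  have h1 : f o * r = 1 := IsFractionRing.injective R' K' (by
    rw [map_mul, map_one, ← hθ, ← hz, ho, ← map_mul, inv_mul_cancel₀ hz0, map_one])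
  obtain ⟨o', ho'⟩ := isUnit_of_map_unit f o (IsUnit.of_mul_eq_one _ h1)
  refine ⟨↑o'⁻¹, ?_⟩
  rw [← inv_inv z, ← ho, ← ho', map_units_inv]

end Groth.Agent.NeronSH
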